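import Cfsg.Agent.Lib.JankoFourClasses.Two.Witness
import Cfsg.Agent.Lib.JankoFourFive.Local
import Cfsg.Agent.Lib.JankoFourOrder.Coord.Types

/-!
# The classes of 2-elements with a power equal to `z` (owner: helper28)
-/

set_option autoImplicit false
set_option linter.unusedSectionVars false
set_option maxRecDepth 100000

namespace CfsgLib.JankoFour

open Cfsg CfsgLib.ThreeTrans CfsgLib.JankoFourHexad CfsgLib.JankoFourOrder
open CfsgLib.JankoFourOrder.Central CfsgLib.JankoFourClasses.Two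
open CfsgLib.Sporadic (Rep forallLt_elim countLt exists_M24_elt isAut pone)
open CfsgLib.ThreeTrans.M24Inv (peq peq_iff)

/-- The sizes of the classes of involutions of the matrices. -/
theorem cls_card : (Nat.beq (countLt 6303 fun j => Nat.beq (clsOf j) 0) 1155 &&
    Nat.beq (countLt 6303 fun j => Nat.beq (clsOf j) 2) 4158) = true := by decide +kernel




variable {G : Type*} [Group G] [Finite G]

namespace HexBase

variable {S : Setting G} (B : HexBase S)

namespace NVModel

variable {B} (M : B.NVModel)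

/-- Powers in the affine model. -/
theorem pow_aff {n p : ℕ} {σ : ↥M24} (hn : n < 2048) (hp : Rep σ.1 p) :
    ∀ k, (aPow n p k).1 < 2048 ∧ ∃ τ : ↥M24, Rep τ.1 (aPow n p k).2 ∧
      (B.vel n * M.k σ) ^ k = B.vel (aPow n p k).1 * M.k τ
  | 0 => ⟨by show (0 : ℕ) < 2048; norm_num, 1, Rep.one, by
      show (B.vel n * M.k σ) ^ 0 = B.vel 0 * M.k 1
      rw [pow_zero, B.vel_zero, map_one, mul_one]⟩
  | k + 1 => by
    obtain ⟨hlt, τ, hτ, e⟩ := pow_aff hn hp k
    obtain ⟨h1, h2⟩ := M.act' hp hlt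
    have hk : aPow n p (k + 1) = (Nat.xor n (pImg p (aPow n p k).1), CfsgLib.Sporadic.pmul p (aPow n p k).2) := rfl
    rw [hk]
    refine ⟨Nat.xor_lt_two_pow (n := 11) hn h1, σ * τ, hp.mul hτ, ?_⟩
    show _ = B.vel (Nat.xor n (pImg p (aPow n p k).1)) * M.k (σ * τ)
    rw [pow_succ', e, ← B.vel_xor, ← h2, map_mul]
    group

/-- A value in the affine model. -/
theorem pow_value {n p k m : ℕ} {σ : ↥M24} (hn : n < 2048) (hp : Rep σ.1 p)
    (h : aEq (aPow n p k) m pone = true) : (B.vel n * M.k σ) ^ k = B.vel m := by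
  obtain ⟨-, τ, hτ, e⟩ := M.pow_aff hn hp k
  rw [aEq, Bool.and_eq_true, Nat.beq_eq] at h
  rw [e, h.1, show τ = 1 from Subtype.ext ((peq_iff hτ Rep.one).1 h.2), map_one, mul_one]

/-- A twist: conjugation by a translation multiplies the element by `z`. -/
theorem twist {n f p : ℕ} {τ : ↥M24} (hp : Rep τ.1 p) (hf : f < 2048) (h : pImg p f = Nat.xor f 1) :
    B.vel f * (B.vel n * M.k τ) * (B.vel f)⁻¹ = S.z * (B.vel n * M.k τ) := by
  rw [B.conj_shift (M.hk τ) hf, M.act_k hp hf, h, show f ^^^ Nat.xor f 1 = 1 from xor_cancel'' f 1,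
    show n ^^^ 1 = Nat.xor 1 n from Nat.xor_comm n 1, ← B.vel_xor, B.vel_one, mul_assoc]
where
  xor_cancel'' (a b : ℕ) : a ^^^ Nat.xor a b = b := by
    show a ^^^ (a ^^^ b) = b
    rw [← Nat.xor_assoc, Nat.xor_self, Nat.zero_xor]

end NVModel

/-- The order of an element with a power equal to `z`. -/
theorem orderOf_of_pow_z {x : G} {k : ℕ} (h : x ^ 2 ^ k = S.z) : orderOf x = 2 ^ (k + 1) := by
  haveI : Fact (Nat.Prime 2) := ⟨Nat.prime_two⟩
  refine orderOf_eq_prime_pow (by rw [h]; exact S.hE.z_ne_one) ?_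
  rw [pow_succ, pow_mul, h, pow_two, S.hE.mul_self_z]

/-- The centralizer of such an element lies in `H`. -/
theorem centralizer_le_H {x : G} {k : ℕ} (h : x ^ k = S.z) : Subgroup.centralizer ({x} : Set G) ≤ S.H :=
  fun g hg => S.mem_H.2 (h ▸ Commute.pow_right (Subgroup.mem_centralizer_singleton_iff.1 hg) k)

/-- **The five representatives outside the extraspecial group.** -/
theorem exists_rep (M : B.NVModel) {r : ℕ} (hr : r < 5) {c cls o1 o3 : ℕ}
    (hc : clsOf (invIx r) = c) (hcls : (countLt 6303 fun j => Nat.beq (clsOf j) c) = cls)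
    (ho1 : nNum r = o1) (ho3 : countLt 4096 (fun v => Nat.testBit (maskOf (wImg r) (wNum r)) v) = o3) :
    ∃ x : G, B.Mat x (nR r) ∧ x ^ (ordR r / 2) = S.z ∧
      cls * o1 * o3 * 2 * Nat.card ↥(Subgroup.centralizer ({x} : Set G)) ≤ Nat.card ↥S.H := by
  classical
  have he := forallLt_elim elem_ok hr
  simp only [elemOK, Bool.and_eq_true, Nat.blt_eq, Nat.beq_eq] at he
  obtain ⟨⟨⟨⟨⟨⟨⟨⟨⟨⟨hw, hj⟩, hel⟩, -⟩, hi⟩, hpow⟩, -⟩, -⟩, hf⟩, hz⟩, htw⟩ := he
  have hj' := hj
  simp only [jCheck, normPerm, Bool.and_eq_true] at hj'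
  obtain ⟨σ, hσ⟩ := exists_M24_elt hj'.1.1.1.2.1.1
  obtain ⟨τ, hτ, hx⟩ := M.img_of_check hw hσ hj
  set x := B.vel (elCode (vecR r) (vR r)) * M.k τ with hxdef
  have hxz : x ^ (ordR r / 2) = S.z := (M.pow_value hel hτ hz).trans B.vel_one
  refine ⟨x, ⟨_, hx⟩, hxz, ?_⟩
  have hno := forallLt_elim n_ok hr
  have hwo := forallLt_elim w_ok hr
  simp only [wOK, Bool.and_eq_true, List.all_eq_true, Nat.blt_eq] at hwo
  obtain ⟨hwo, hbas⟩ := hwo
  -- the witnesses
  have hA : ∀ j : {j : Fin 6303 // Nat.beq (clsOf j.1) c = true},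
      ∃ u m, B.Mat u m ∧ mMul m (LT (invIx r)) = mMul (LT j.1.1) m := fun j =>
    B.exists_class_transfer hi j.1.2 (hc.trans (Nat.eq_of_beq_eq_true j.2).symm)
  choose A mA hAm hAe using hA
  have hN : ∀ b : Fin (nNum r), ∃ u, S.Norm u ∧ B.Acts u (hWordM r (nAt r b.1).2) := fun b => by
    have h := forallLt_elim hno b.2
    simp only [Bool.and_eq_true, Nat.blt_eq, List.all_eq_true] at h
    exact B.exists_hWord M hr h.1.1.1.1
  choose N hNn hNa using hN
  have hW : ∀ v : {v : Fin 4096 // (maskOf (wImg r) (wNum r)).testBit v.1 = true},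
      ∃ u, B.Img (u * x * u⁻¹) v.1.1 (nR r) ∧ Commute u S.z := by
    rintro ⟨v, hv⟩
    obtain ⟨k, hk, e⟩ := maskOf_test _ hv
    set len := (wBasis.getD r []).length
    have hidx : Nat.shiftRight k len < (wWit.getD r []).length := by
      show k >>> len < _
      rw [Nat.shiftRight_eq_div_pow, Nat.div_lt_iff_lt_mul (by positivity)]
      exact lt_of_lt_of_eq hk (Nat.shiftLeft_eq _ _)
    have h := forallLt_elim hwo hidx
    simp only [Bool.and_eq_true, List.all_eq_true, Nat.blt_eq, Nat.beq_eq] at h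
    obtain ⟨u, hu, hu'⟩ := B.exists_hWord M hr h.1
    have hflt : fW r k < 4096 := by
      have hb : ∀ j, (wBasis.getD r []).getD j 0 < 4096 := fun j => by
        by_cases hjl : j < (wBasis.getD r []).length
        · rw [List.getD_eq_getElem _ _ hjl]; exact hbas _ (List.getElem_mem hjl)
        · rw [List.getD_eq_default _ _ (by omega)]; norm_num
      exact xfold_lt12 hb k _
    have hh := (B.img_q hflt).mul B (B.img_norm hu hu')
    rw [mMul_vec_zero, Nat.xor_zero, mMul_id_left hu'.1] at hh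
    refine ⟨B.q (fW r k) * u, ?_, hh.commute B⟩
    have hc' := hh.conj B hx h.2
    show B.Img _ v.1 _
    rw [← e]
    exact hc'
  choose W hWi hWz using hW
  let Z : Bool → G := fun e => bif e then B.vel (twR r) else 1
  have hy : ∀ e, Z e * x * (Z e)⁻¹ = bif e then S.z * x else x := fun e => by
    cases e
    · simp [Z]
    · exact M.twist hτ hf htw
  let ι := {j : Fin 6303 // Nat.beq (clsOf j.1) c = true} × Fin (nNum r) ×
    {v : Fin 4096 // (maskOf (wImg r) (wNum r)).testBit v.1 = true} × Bool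
  let h : ι → G := fun a => A a.1 * (N a.2.1 * (W a.2.2.1 * Z a.2.2.2))
  have hcard : Nat.card ι = cls * o1 * o3 * 2 := by
    simp only [ι, Nat.card_prod, Nat.card_fin, ho1]
    rw [card_countLt (fun j => Nat.beq (clsOf j) c), hcls,
      card_countLt (fun v => Nat.testBit (maskOf (wImg r) (wNum r)) v), ho3, Nat.card_eq_fintype_card (α := Bool),
      Fintype.card_bool]
    ring
  rw [← hcard]
  refine card_centralizer_mul_le (centralizer_le_H hxz) h (fun a => ?_) ?_
  · refine S.mem_H.2 (((hAm a.1).commute B).mul_left ((hNn a.2.1).1.mul_left ((hWz a.2.2.1).mul_left ?_)))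
    show Commute (bif a.2.2.2 then B.vel (twR r) else 1) S.z
    cases a.2.2.2
    exacts [Commute.one_left _, B.vel_comm_z _]
  -- the layers are told apart
  have hy2 : ∀ v e, B.Img (W v * (Z e * x * (Z e)⁻¹) * (W v)⁻¹) v.1.1 (nR r) := fun v e => by
    rw [hy]
    cases e
    · exact hWi v
    · refine (hWi v).congr B ?_
      exact Setting.Zm.conj (Or.inr rfl : S.Zm (S.z * x) x) (hWz v)
  have hy3 : ∀ (b : Fin (nNum r)) v e,
      B.Mat (N b * (W v * (Z e * x * (Z e)⁻¹) * (W v)⁻¹) * (N b)⁻¹) (nAt r b.1).1 := fun b v e => by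
    have h := forallLt_elim hno b.2
    simp only [Bool.and_eq_true, Nat.blt_eq, Nat.beq_eq, List.all_eq_true] at h
    exact Mat.conj B ⟨0, B.img_norm (hNn b) (hNa b)⟩ ⟨_, hy2 v e⟩ h.1.1.1.2 h.1.1.2
  have hy4 : ∀ j b v e, B.Mat ((A j * (N b * (W v * (Z e * x * (Z e)⁻¹) * (W v)⁻¹) * (N b)⁻¹) * (A j)⁻¹) ^ halfR r)
      (LT j.1.1) := fun j b v e => by
    rw [conj_pow]
    have h := forallLt_elim hno b.2
    simp only [Bool.and_eq_true, Nat.blt_eq, Nat.beq_eq, List.all_eq_true] at h
    refine Mat.conj B (hAm j) ((hy3 b v e).pow B (halfR r)) (LT_lt _) ?_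
    rw [h.1.2]
    exact hAe j
  rintro ⟨j, b, v, e⟩ ⟨j', b', v', e'⟩ heq
  simp only [h] at heq
  have key : ∀ (a n w t : G), a * (n * (w * t)) * x * (a * (n * (w * t)))⁻¹ =
      a * (n * (w * (t * x * t⁻¹) * w⁻¹) * n⁻¹) * a⁻¹ := fun a n w t => by group
  rw [key, key] at heq
  obtain rfl : j = j' := by
    refine Subtype.ext (Fin.ext ?_)
    exact LT_inj (by omega) (by omega) ((hy4 j b v e).unique B (heq ▸ hy4 j' b' v' e'))
  have heq3 := mul_left_cancel (mul_right_cancel heq)
  obtain rfl : b = b' := by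
    have hs := (hy3 b v e).unique B (heq3 ▸ hy3 b' v' e')
    have hmono : ∀ d : ℕ, d < nNum r → ∀ a, a < d → (nAt r a).1 < (nAt r d).1 := by
      intro d
      induction d with
      | zero => intro _ a ha; omega
      | succ d ihd =>
        intro hd a ha
        have h := forallLt_elim hno hd
        simp only [Bool.and_eq_true, Bool.or_eq_true, Nat.blt_eq, Nat.beq_eq] at h
        have h2 := h.2.resolve_left (by omega)
        rcases Nat.lt_succ_iff_lt_or_eq.1 ha with e' | rfl
        exacts [(ihd (by omega) a e').trans h2, h2]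
    refine Fin.ext ?_
    rcases lt_trichotomy b.1 b'.1 with e' | e' | e'
    · exact absurd hs (hmono _ b'.2 _ e').ne
    · exact e'
    · exact absurd hs.symm (hmono _ b.2 _ e').ne
  have heq2 := mul_left_cancel (mul_right_cancel heq3)
  obtain rfl : v = v' := Subtype.ext (Fin.ext ((hy2 v e).unique B (heq2 ▸ hy2 v' e')).1)
  have heq1 := mul_left_cancel (mul_right_cancel heq2)
  obtain rfl : e = e' := by
    rw [hy, hy] at heq1
    cases e <;> cases e' <;> simp_all [S.hE.z_ne_one]
  rfl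

end HexBase

end CfsgLib.JankoFour
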