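import Cfsg.Agent.Lib.JankoFourClasses.Two.Codes

/-!
# The finite checks for the classes of 2-elements (owner: helper28)
-/

set_option autoImplicit false
set_option maxRecDepth 100000

namespace CfsgLib.JankoFourClasses.Two

open CfsgLib.Sporadic CfsgLib.JankoFourHexad CfsgLib.JankoFourOrder CfsgLib.JankoFourOrder.Central
open CfsgLib.ThreeTrans.M24Inv (peq)

/-- The representative is an element of the coordinates with the matrix. -/
noncomputable def elemOK (r : ℕ) : Bool :=
  Nat.blt (vecR r) 4096 && jCheck (vR r) (pR r) (nR r) && Nat.blt (elCode (vecR r) (vR r)) 2048 &&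
    Nat.blt (sylIx r) 512 && Nat.blt (invIx r) 6303 && Nat.beq (JankoFourOrder.mPow (nR r) (halfR r)) (LT (invIx r)) &&
    Nat.blt 0 (halfR r) && Nat.blt (halfR r) 5 && Nat.blt (twR r) 2048 &&
    aEq (aPow (elCode (vecR r) (vR r)) (elPerm (vecR r) (pR r)) (ordR r / 2)) 1 pone &&
    Nat.beq (pImg (elPerm (vecR r) (pR r)) (twR r)) (Nat.xor (twR r) 1)

/-- The generators of the centralizer of the involution. -/
noncomputable def gensR (r : ℕ) : Bool :=
  forallLt (hWords.getD r []).length fun i =>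
    ((hWords.getD r []).getD i []).all (fun g => Nat.blt g 5) &&
      Nat.beq (mMul (hR r i) (LT (invIx r))) (mMul (LT (invIx r)) (hR r i))

/-- The conjugates of the matrix. -/
noncomputable def nOK (r : ℕ) : Bool :=
  forallLt (nNum r) fun b =>
    (nAt r b).2.all (fun i => Nat.blt i (hWords.getD r []).length) && Nat.blt (nAt r b).1 (2 ^ 144) &&
      Nat.beq (mMul (hWordM r (nAt r b).2) (nR r)) (mMul (nAt r b).1 (hWordM r (nAt r b).2)) &&
      Nat.beq (JankoFourOrder.mPow (nAt r b).1 (halfR r)) (LT (invIx r)) &&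
      (Nat.beq b 0 || Nat.blt (nAt r (b - 1)).1 (nAt r b).1)

/-- The words moving the vector. -/
noncomputable def wOK (r : ℕ) : Bool :=
  forallLt (wWit.getD r []).length (fun i =>
    ((wWit.getD r []).getD i []).all (fun j => Nat.blt j (hWords.getD r []).length) &&
      Nat.beq (mMul (hWordM r ((wWit.getD r []).getD i [])) (nR r))
        (mMul (nR r) (hWordM r ((wWit.getD r []).getD i [])))) &&
    (wBasis.getD r []).all (fun f => Nat.blt f 4096)

theorem elem_ok : forallLt 5 elemOK = true := by decide +kernel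

theorem gens_ok : forallLt 5 gensR = true := by decide +kernel

theorem n_ok : forallLt 5 nOK = true := by decide +kernel

theorem w_ok : forallLt 5 wOK = true := by decide +kernel

theorem sizes_n : (Nat.beq (nNum 0) 1 && Nat.beq (nNum 1) 1 && Nat.beq (nNum 2) 24 && Nat.beq (nNum 3) 12 &&
    Nat.beq (nNum 4) 144 && Nat.beq (wNum 0) 96 && Nat.beq (wNum 1) 2048 && Nat.beq (wNum 2) 512 &&
    Nat.beq (wNum 3) 1536 && Nat.beq (wNum 4) 2048) = true := by decide +kernel

theorem w_count0 : countLt 4096 (fun v => Nat.testBit (maskOf (wImg 0) 96) v) = 96 := by decide +kernel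
theorem w_count1 : countLt 4096 (fun v => Nat.testBit (maskOf (wImg 1) 2048) v) = 2048 := by decide +kernel
theorem w_count2 : countLt 4096 (fun v => Nat.testBit (maskOf (wImg 2) 512) v) = 512 := by decide +kernel
theorem w_count3 : countLt 4096 (fun v => Nat.testBit (maskOf (wImg 3) 1536) v) = 1536 := by decide +kernel
theorem w_count4 : countLt 4096 (fun v => Nat.testBit (maskOf (wImg 4) 2048) v) = 2048 := by decide +kernel

theorem e_count : countLt 4096 (fun v => Nat.testBit eMask v) = 2016 := by decide +kernel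

theorem e_elem : (jCheck 0 pone mId && Nat.blt eTwist 2048 &&
    aEq (aPow (elCode 66 0) (elPerm 66 pone) 2) 1 pone && Nat.blt (elCode 66 0) 2048 &&
    Nat.beq (pImg (elPerm 66 pone) eTwist) (Nat.xor eTwist 1)) = true := by decide +kernel

theorem cls_sizes : forallLt 6303 (fun j => Nat.blt (clsOf j) 3) = true := by decide +kernel

theorem inv_cls : forallLt 5 (fun r => Nat.beq (clsOf (invIx r)) ([0, 2, 0, 0, 0].getD r 0)) = true := by
  decide +kernel

theorem t_elem : (Nat.blt tEl.1 2048 && isAut tEl.2 && Nat.beq (pImg tEl.2 2) 2 &&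
    aEq (aPow tEl.1 tEl.2 2) 2 pone && tBasis.all (fun f => Nat.blt f 2048) &&
    forallLt 8 fun i => isAut (tShifts.getD i 0) && Nat.beq (pImg (tShifts.getD i 0) 2) 2 &&
      peq (pmul (tShifts.getD i 0) tEl.2) (pmul tEl.2 (tShifts.getD i 0))) = true := by decide +kernel

theorem t_conj : forallLt 330 (fun a =>
    isAut (tConj.getD a (0, 0)).2 && Nat.beq (pImg (tConj.getD a (0, 0)).2 2) 2 && isAut (tConj.getD a (0, 0)).1 &&
      peq (pmul (tConj.getD a (0, 0)).2 tEl.2) (pmul (tConj.getD a (0, 0)).1 (tConj.getD a (0, 0)).2) &&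
      Nat.beq (pmul (tConj.getD a (0, 0)).1 pone) (tConj.getD a (0, 0)).1 &&
      (Nat.beq a 0 || Nat.blt (tConj.getD (a - 1) (0, 0)).1 (tConj.getD a (0, 0)).1)) = true := by decide +kernel

theorem t_count : countLt 2048 (fun v => Nat.testBit (maskOf tImg 128) v) = 128 := by decide +kernel

theorem mat_invariants : (Nat.beq (JankoFourOrder.mPow (nR 0) 2) mId && Nat.beq (JankoFourOrder.mPow (nR 1) 2) mId &&
    !Nat.beq (nR 1) mId && !Nat.beq (nR 0) mId && !Nat.beq (JankoFourOrder.mPow (nR 2) 2) mId && !Nat.beq (JankoFourOrder.mPow (nR 3) 2) mId &&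
    forallLt 12 (fun j => Nat.beq (Nat.xor (Nat.xor (Nat.pow 2 j) (mMul (nR 3) (Nat.pow 2 j)))
      (Nat.xor (mMul (JankoFourOrder.mPow (nR 3) 2) (Nat.pow 2 j)) (mMul (JankoFourOrder.mPow (nR 3) 3) (Nat.pow 2 j)))) 0) &&
    !forallLt 12 (fun j => Nat.beq (Nat.xor (Nat.xor (Nat.pow 2 j) (mMul (nR 2) (Nat.pow 2 j)))
      (Nat.xor (mMul (JankoFourOrder.mPow (nR 2) 2) (Nat.pow 2 j)) (mMul (JankoFourOrder.mPow (nR 2) 3) (Nat.pow 2 j)))) 0)) = true := by
  decide +kernel

end CfsgLib.JankoFourClasses.Two
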