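import Cfsg.Agent.Lib.JankoFourOrder.Central.RepData
import Cfsg.Agent.Lib.JankoFourClasses.Two.Data

/-!
# Representatives and witnesses for the classes of 2-elements, in codes (owner: helper28)
-/

set_option autoImplicit false
set_option maxRecDepth 100000

namespace CfsgLib.JankoFourClasses.Two

open CfsgLib.Sporadic CfsgLib.JankoFourHexad CfsgLib.JankoFourOrder CfsgLib.JankoFourOrder.Central
open CfsgLib.ThreeTrans.M24Inv (peq)

/-- The matrix of a letter: the generators, the outer element, the inverses. -/
noncomputable def letM (g : ℕ) : ℕ :=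
  if Nat.blt g 2 then genM g else if Nat.beq g 2 then repM 1 else genI (g - 3)

/-- The matrix of a word, the first letter acting last. -/
noncomputable def evalW (w : List ℕ) : ℕ := w.foldr (fun g m => mMul (letM g) m) mId

/-- Position in the Sylow subgroup. -/
noncomputable def sylIx (r : ℕ) : ℕ := (elData.getD r (0, 0, 0, 0, 0)).1

/-- The vector. -/
noncomputable def vecR (r : ℕ) : ℕ := (elData.getD r (0, 0, 0, 0, 0)).2.1

/-- The position of the involution. -/
noncomputable def invIx (r : ℕ) : ℕ := (elData.getD r (0, 0, 0, 0, 0)).2.2.1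

/-- The twisting code. -/
noncomputable def twR (r : ℕ) : ℕ := (elData.getD r (0, 0, 0, 0, 0)).2.2.2.1

/-- The order of the element. -/
noncomputable def ordR (r : ℕ) : ℕ := (elData.getD r (0, 0, 0, 0, 0)).2.2.2.2

/-- The exponent that gives the involution modulo the extraspecial group. -/
noncomputable def halfR (r : ℕ) : ℕ := [1, 1, 2, 2, 4].getD r 1

/-- The code of the part normalizing `P`. -/
noncomputable def vR (r : ℕ) : ℕ := fixedP.getD (Nat.div (sylIx r) 16) 0

/-- The permutation of the part normalizing `P`. -/
noncomputable def pR (r : ℕ) : ℕ := sylPerm.getD (Nat.mod (sylIx r) 16) 0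

/-- The matrix. -/
noncomputable def nR (r : ℕ) : ℕ :=
  mMul (fixedMat.getD (Nat.div (sylIx r) 16) 0) (sylMat.getD (Nat.mod (sylIx r) 16) 0)

/-- The matrix of a generator of the centralizer of the involution. -/
noncomputable def hR (r i : ℕ) : ℕ := evalW ((hWords.getD r []).getD i [])

/-- The matrix of a word in these generators. -/
noncomputable def hWordM (r : ℕ) (w : List ℕ) : ℕ := w.foldr (fun i m => mMul (hR r i) m) mId

/-- A conjugate of the matrix, with its word. -/
noncomputable def nAt (r b : ℕ) : ℕ × List ℕ := (nWit.getD r []).getD b (0, [])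

/-- The number of conjugates. -/
noncomputable def nNum (r : ℕ) : ℕ := (nWit.getD r []).length

/-- The matrix moving the vector. -/
noncomputable def mW (r k : ℕ) : ℕ :=
  hWordM r ((wWit.getD r []).getD (Nat.shiftRight k (wBasis.getD r []).length) [])

/-- The translation moving the vector. -/
noncomputable def fW (r k : ℕ) : ℕ := xfold (fun j => (wBasis.getD r []).getD j 0) k (wBasis.getD r []).length

/-- The number of vectors moved to. -/
noncomputable def wNum (r : ℕ) : ℕ := Nat.shiftLeft (wWit.getD r []).length (wBasis.getD r []).length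

/-- An image of the vector. -/
noncomputable def wImg (r k : ℕ) : ℕ :=
  Nat.xor (Nat.xor (fW r k) (mMul (mW r k) (vecR r))) (mMul (nR r) (fW r k))

/-- The set of the first values, as a bit mask. -/
noncomputable def maskOf (f : ℕ → ℕ) (n : ℕ) : ℕ :=
  Nat.rec 0 (fun k m => Nat.lor m (Nat.shiftLeft 1 (f k))) n

/-- One step in the orbit of the vector of the element of order four. -/
noncomputable def eStep (m c : ℕ) : ℕ :=
  if Nat.testBit m (Nat.shiftRight c 2) && Nat.blt (Nat.land c 3) 2 && Nat.blt (Nat.shiftRight c 2) 4096 then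
    Nat.lor m (Nat.shiftLeft 1 (mMul (genM (Nat.land c 3)) (Nat.shiftRight c 2)))
  else m

/-- The orbit. -/
noncomputable def eMask : ℕ := eSteps.foldl eStep (Nat.shiftLeft 1 66)

/-- A shift commuting with the permutation over the duad. -/
noncomputable def tS (k : ℕ) : ℕ := tShifts.getD (Nat.shiftRight k 4) 0

/-- The translation. -/
noncomputable def tU (k : ℕ) : ℕ := xfold (fun j => tBasis.getD j 0) k 4

/-- An image of the code over the duad. -/
noncomputable def tImg (k : ℕ) : ℕ :=
  Nat.xor (pImg (tS k) tEl.1) (Nat.xor (tU k) (pImg tEl.2 (tU k)))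

/-- A power in the affine model. -/
noncomputable def aPow (n p k : ℕ) : ℕ × ℕ := Nat.rec (0, pone) (fun _ acc => amul n p acc.1 acc.2) k

/-- A pair has the given value. -/
noncomputable def aEq (a : ℕ × ℕ) (n p : ℕ) : Bool := Nat.beq a.1 n && peq a.2 p

end CfsgLib.JankoFourClasses.Two
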