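import Cfsg.Agent.Lib.JankoFourClasses.Two.Central
import Cfsg.Agent.Lib.JankoFourOrder.DualCount

/-!
# The elements of order four with square in the second class (owner: helper28)
-/

set_option autoImplicit false
set_option linter.unusedSectionVars false
set_option maxRecDepth 100000

namespace CfsgLib.JankoFour

open Cfsg CfsgLib.ThreeTrans CfsgLib.JankoFourHexad CfsgLib.JankoFourOrder
open CfsgLib.JankoFourClasses.Two
open CfsgLib.Sporadic (Rep forallLt_elim countLt exists_M24_elt isAut pone pget pmul pt ix_pt)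
open CfsgLib.ThreeTrans.M24Inv (peq peq_iff)

theorem dualCode_two : CfsgLib.JankoFour.Dual.dualCode = 2 := by decide +kernel

variable {G : Type*} [Group G] [Finite G]

namespace HexBase

variable {S : Setting G} (B : HexBase S)

theorem duadRep_two : B.duadRep = B.vel 2 := by rw [TenBase.duadRep_eq, dualCode_two]

/-- The translations used over the duad are below `2048`. -/
theorem tU_lt (k : ℕ) : tU k < 2048 := by
  have h := t_elem
  simp only [Bool.and_eq_true, List.all_eq_true, Nat.blt_eq] at h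
  have hb : ∀ j, tBasis.getD j 0 < 2048 := fun j => by
    by_cases hj : j < tBasis.length
    · rw [List.getD_eq_getElem _ _ hj]; exact h.1.2 _ (List.getElem_mem hj)
    · rw [List.getD_eq_default _ _ (by omega)]; norm_num
  have : ∀ n, xfold (fun j => tBasis.getD j 0) k n < 2048 := fun n => by
    induction n with
    | zero => show (0 : ℕ) < 2048; norm_num
    | succ n ih =>
      rw [xfold_succ]
      refine Nat.xor_lt_two_pow (n := 11) ih ?_
      split_ifs
      exacts [hb n, by norm_num]
  exact this 4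

set_option maxHeartbeats 1000000 in
/-- **The class over the second class of involutions.** -/
theorem exists_rep_dual [IsSimpleGroup G] (hG : ¬ IsMulCommutative G) (hJ : IsOfJankoFourType G) (M : B.NVModel) :
    ∃ x : G, x ^ 2 = B.duadRep ∧ orderOf x = 4 ∧
      Nat.card ↥(Subgroup.centralizer ({x} : Set G)) ≤ 43008 := by
  classical
  haveI : Fact (Nat.Prime 2) := ⟨Nat.prime_two⟩
  have he := t_elem
  simp only [Bool.and_eq_true, Nat.blt_eq, Nat.beq_eq] at he
  obtain ⟨⟨⟨⟨⟨hn, haut⟩, hfix⟩, hsq⟩, -⟩, hsh⟩ := he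
  obtain ⟨σ, hσ⟩ := exists_M24_elt haut
  set x := B.vel tEl.1 * M.k σ with hxdef
  have hx2 : x ^ 2 = B.vel 2 := M.pow_value hn hσ hsq
  obtain ⟨hT1, -⟩ := B.duadRep_facts hG hJ
  have hxo : orderOf x = 4 := by
    refine orderOf_eq_prime_pow (p := 2) (n := 1) (by rw [pow_one, hx2, ← B.duadRep_two]; exact hT1) ?_
    rw [show 2 ^ (1 + 1) = 2 * 2 from rfl, pow_mul, hx2, pow_two, B.vel_sq]
  refine ⟨x, by rw [hx2, B.duadRep_two], hxo, ?_⟩
  set K := Subgroup.centralizer ({B.duadRep} : Set G) with hK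
  have hC : Subgroup.centralizer ({x} : Set G) ≤ K := fun g hg => by
    rw [hK, B.duadRep_two, ← hx2, Subgroup.mem_centralizer_singleton_iff]
    exact (Commute.pow_right (Subgroup.mem_centralizer_singleton_iff.1 hg) 2).eq
  have hmem : ∀ {s : ↥M24} {p : ℕ}, Rep s.1 p → pImg p 2 = 2 → M.k s ∈ K := fun {s p} hs h2 => by
    rw [hK, B.duadRep_two, Subgroup.mem_centralizer_singleton_iff]
    have := (M.act' hs (n := 2) (by norm_num)).2
    rw [h2] at this
    exact mul_inv_eq_iff_eq_mul.1 this
  have hvel : ∀ u, B.vel u ∈ K := fun u => by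
    rw [hK, B.duadRep_two, Subgroup.mem_centralizer_singleton_iff]
    exact (B.vel_comm u 2).eq
  -- conjugates of the permutation
  have hg : ∀ a : Fin 330, ∃ g s : ↥M24, M.k g ∈ K ∧ Rep s.1 (tConj.getD a.1 (0, 0)).1 ∧ g * σ = s * g := fun a => by
    have h := forallLt_elim t_conj a.2
    simp only [Bool.and_eq_true, Nat.beq_eq] at h
    obtain ⟨⟨⟨⟨⟨hga, hg2⟩, hsa⟩, hpe⟩, -⟩, -⟩ := h
    obtain ⟨g, hg⟩ := exists_M24_elt hga
    obtain ⟨s, hs⟩ := exists_M24_elt hsa
    exact ⟨g, s, hmem hg hg2, hs, Subtype.ext ((peq_iff (hg.mul hσ) (hs.mul hg)).1 hpe)⟩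
  choose g s hgK hs hgs using hg
  -- shifts of the code
  have hW : ∀ v : {v : Fin 2048 // (maskOf tImg 128).testBit v.1 = true},
      ∃ w ∈ K, w * x * w⁻¹ = B.vel v.1.1 * M.k σ := by
    rintro ⟨v, hv⟩
    obtain ⟨k, hk, e⟩ := maskOf_test _ hv
    have hidx : Nat.shiftRight k 4 < 8 := by
      show k >>> 4 < 8
      rw [Nat.shiftRight_eq_div_pow]; omega
    have h := forallLt_elim hsh hidx
    simp only [Bool.and_eq_true, Nat.beq_eq] at h
    obtain ⟨⟨hca, hc2⟩, hpe⟩ := h
    obtain ⟨c, hc⟩ := exists_M24_elt hca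
    have hcs : c * σ = σ * c := Subtype.ext ((peq_iff (hc.mul hσ) (hσ.mul hc)).1 hpe)
    refine ⟨B.vel (tU k) * M.k c, mul_mem (hvel _) (hmem hc hc2), ?_⟩
    show _ = B.vel v.1 * M.k σ
    rw [← e, tImg]
    calc B.vel (tU k) * M.k c * x * (B.vel (tU k) * M.k c)⁻¹
        = B.vel (tU k) * ((M.k c * B.vel tEl.1 * (M.k c)⁻¹) * (M.k c * M.k σ * (M.k c)⁻¹)) * (B.vel (tU k))⁻¹ := by
          rw [hxdef]; group
      _ = _ := by
          rw [(M.act' hc hn).2, ← map_mul, hcs, map_mul, mul_inv_cancel_right, B.conj_shift (M.hk σ) (tU_lt k),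
            M.act_k hσ (tU_lt k)]
          rfl
  choose W hWK hWe using hW
  let ι := Fin 330 × {v : Fin 2048 // (maskOf tImg 128).testBit v.1 = true}
  have hcard : Nat.card ι = 330 * 128 := by
    simp only [ι, Nat.card_prod, Nat.card_fin]
    rw [card_countLt (fun v => Nat.testBit (maskOf tImg 128) v), t_count]
  have hle := card_centralizer_mul_le hC (fun a : ι => M.k (g a.1) * W a.2)
    (fun a => mul_mem (hgK a.1) (hWK a.2)) (by
    rintro ⟨a, v⟩ ⟨a', v'⟩ heq
    simp only at heq
    have key : ∀ (b w : G), b * w * x * (b * w)⁻¹ = b * (w * x * w⁻¹) * b⁻¹ := fun b w => by group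
    rw [key, key, hWe, hWe] at heq
    have hnf : ∀ (b : Fin 330) (m : ℕ), m < 2048 → M.k (g b) * (B.vel m * M.k σ) * (M.k (g b))⁻¹ =
        B.vel (B.act (M.k (g b)) m) * M.k (s b) := fun b m hm => by
      calc M.k (g b) * (B.vel m * M.k σ) * (M.k (g b))⁻¹
          = M.k (g b) * B.vel m * (M.k (g b))⁻¹ * (M.k (g b) * M.k σ * (M.k (g b))⁻¹) := by group
        _ = _ := by rw [← B.vel_act (M.hk _) hm, ← map_mul, hgs, map_mul, mul_inv_cancel_right]
    obtain rfl : a = a' := by
      have h0 := heq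
      rw [hnf a v.1.1 v.1.2, hnf a' v'.1.1 v'.1.2] at h0
      have hss := (M.hinj _ _ _ _ (B.act_lt _ _) (B.act_lt _ _) h0).2
      have hval : (tConj.getD a.1 (0, 0)).1 = (tConj.getD a'.1 (0, 0)).1 := by
        have hc : ∀ b : Fin 330, pmul (tConj.getD b.1 (0, 0)).1 pone = (tConj.getD b.1 (0, 0)).1 := fun b => by
          have h := forallLt_elim t_conj b.2
          simp only [Bool.and_eq_true, Nat.beq_eq] at h
          exact h.1.2
        rw [← hc a, ← hc a']
        refine CfsgLib.JankoFour.Dual.pmul_congr fun k hk => ?_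
        rw [← ix_pt hk, hs a (pt k), hs a' (pt k), hss]
      have hmono : ∀ d : ℕ, d < 330 → ∀ b, b < d → (tConj.getD b (0, 0)).1 < (tConj.getD d (0, 0)).1 := by
        intro d
        induction d with
        | zero => intro _ b hb; omega
        | succ d ihd =>
          intro hd b hb
          have h := forallLt_elim t_conj hd
          simp only [Bool.and_eq_true, Bool.or_eq_true, Nat.blt_eq, Nat.beq_eq] at h
          have h2 := h.2.resolve_left (by omega)
          rcases Nat.lt_succ_iff_lt_or_eq.1 hb with e' | rfl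
          exacts [(ihd (by omega) b e').trans h2, h2]
      refine Fin.ext ?_
      rcases lt_trichotomy a.1 a'.1 with e' | e' | e'
      · exact absurd hval (hmono _ a'.2 _ e').ne
      · exact e'
      · exact absurd hval.symm (hmono _ a.2 _ e').ne
    have heq' := mul_left_cancel (mul_right_cancel heq)
    obtain rfl : v = v' := Subtype.ext (Fin.ext (M.hinj _ _ _ _ v.1.2 v'.1.2 heq').1)
    rfl)
  rw [hcard, show Nat.card ↥K = 2 ^ 11 * 887040 from B.duad_centralizer_card hG hJ] at hle
  omega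

end HexBase

end CfsgLib.JankoFour
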