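import Cfsg.Agent.Lib.JankoFourOrder.Sig
import Cfsg.Agent.Lib.JankoFourOrder.Coord.Basic
import Cfsg.Agent.Lib.JankoFourOrder.Central.CheckList
import Cfsg.Agent.Lib.JankoFourOrder.Central.CheckGroup
import Cfsg.Agent.Lib.JankoFourOrder.Central.Group

/-!
# Elements of the coordinates in the centralizer of `z`, and their images (owner: helper28)
-/

set_option autoImplicit false
set_option linter.unusedSectionVars false
set_option maxRecDepth 100000

namespace CfsgLib.JankoFour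

open Cfsg CfsgLib.ThreeTrans CfsgLib.JankoFourHexad CfsgLib.JankoFourOrder
open CfsgLib.JankoFourOrder.Central (normPerm jCheck elCode elPerm)
open CfsgLib.Sporadic (Rep forallLt_elim isAut exists_M24_elt pmul)
open CfsgLib.ThreeTrans.M24Inv (peq peq_iff)

variable {G : Type*} [Group G] [Finite G]

namespace HexBase

variable {S : Setting G} (B : HexBase S)

/-- A code of the first fixed space, up to `z`. -/
theorem vel_zm_q {c : ℕ} (hc : c < 128) : S.Zm (B.vel c) (B.q (Nat.shiftRight c 1)) := by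
  have hs : Nat.shiftRight c 1 < 64 := by
    show c >>> 1 < 64
    rw [Nat.shiftRight_eq_div_pow]; omega
  have he : eU c = Nat.shiftRight c 1 := by
    show (c >>> 1) &&& (2 ^ 6 - 1) = c >>> 1
    rw [Nat.and_two_pow_sub_one_eq_mod, Nat.shiftRight_eq_div_pow]; omega
  have hw : eW c = 0 := by
    show c >>> 7 = 0
    rw [Nat.shiftRight_eq_div_pow]; omega
  rw [← B.el_vel hc, el, he, hw, W_zero, mul_one,
    show B.q (Nat.shiftRight c 1) = B.U (Nat.shiftRight c 1) by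
      rw [q, Nat.mod_eq_of_lt hs, Nat.div_eq_of_lt hs, W_zero, mul_one]]
  rcases zpar_mem (c := S.z) c with e | e <;> rw [e]
  exacts [Or.inl (one_mul _), Or.inr rfl]

/-- A translation commutes with `z`. -/
theorem vel_comm_z (n : ℕ) : Commute (B.vel n) S.z := B.vel_one ▸ B.vel_comm n 1

namespace NVModel

variable {B} (M : B.NVModel)

theorem act' {σ : ↥M24} {p : ℕ} (hp : Rep σ.1 p) {n : ℕ} (hn : n < 2048) :
    pImg p n < 2048 ∧ M.k σ * B.vel n * (M.k σ)⁻¹ = B.vel (pImg p n) := M.hact σ p hp n hn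

theorem k_comm_z {σ : ↥M24} {p : ℕ} (hp : Rep σ.1 p) (h1 : Nat.beq (pImg p 1) 1 = true) : Commute (M.k σ) S.z := by
  have := (M.act' hp (n := 1) (by norm_num)).2
  rw [Nat.eq_of_beq_eq_true h1, B.vel_one] at this
  exact mul_inv_eq_iff_eq_mul.1 this

theorem k_wPerm {w : ℕ} (hw : w < 64) : ∃ s : ↥M24, Rep s.1 (wPerm w) ∧ M.k s = B.W w := by
  have h := forallLt_elim wPerm_ok hw
  rw [Bool.and_eq_true] at h
  obtain ⟨s, hs⟩ := exists_M24_elt h.1
  exact ⟨s, hs, M.hW w hw s hs⟩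

theorem el_eq {y v p : ℕ} {σ : ↥M24} (hy : y < 4096) (hv : v < 2048) (hp : Rep σ.1 p) :
    ∃ τ : ↥M24, Rep τ.1 (elPerm y p) ∧ B.q y * (B.vel v * M.k σ) = B.vel (elCode y v) * M.k τ := by
  have hlo : y % 64 < 64 := Nat.mod_lt _ (by norm_num)
  have hhi : y / 64 < 64 := by omega
  obtain ⟨s, hs, hks⟩ := M.k_wPerm hhi
  have e1 : Nat.land y 63 = y % 64 := Nat.and_two_pow_sub_one_eq_mod y 6
  have e2 : Nat.shiftRight y 6 = y / 64 := Nat.shiftRight_eq_div_pow y 6
  refine ⟨s * σ, by rw [elPerm, e2]; exact hs.mul hp, ?_⟩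
  rw [elCode, e1, e2, ← B.vel_xor, B.vel_U hlo, q, ← hks, map_mul, ← (M.act' hs hv).2]
  group

/-- An element of the coordinates in `N_H(P)`, with its matrix. -/
theorem acts_of_check {v p m : ℕ} {σ : ↥M24} (hp : Rep σ.1 p) (h : jCheck v p m = true) :
    v < 2048 ∧ S.Norm (B.vel v * M.k σ) ∧ B.Acts (B.vel v * M.k σ) m := by
  simp only [jCheck, normPerm, Bool.and_eq_true, Nat.blt_eq, Bool.or_eq_true] at h
  obtain ⟨⟨⟨⟨⟨hv, hvp⟩, ⟨-, h1⟩, hN⟩, hm⟩, hlow⟩, hhigh⟩ := h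
  obtain ⟨π, hπ⟩ := exists_M24_elt (show isAut pPerm = true by
    have := pPerm_ok; simp only [Bool.and_eq_true] at this; exact this.1.1)
  have hkπ := M.hp π hπ
  have hcz : Commute (B.vel v * M.k σ) S.z := (B.vel_comm_z v).mul_left (M.k_comm_z hp h1)
  refine ⟨hv, ⟨hcz, ?_⟩, B.acts_of_basis hcz hm fun j hj => ?_⟩
  · -- the group of `p` is normalized
    have hvp' : Commute (B.vel v) B.X.F.p := by
      have := (M.act' hπ hv).2
      rw [Nat.eq_of_beq_eq_true hvp, hkπ] at this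
      exact (mul_inv_eq_iff_eq_mul.1 this).symm
    have hconj : ∃ i : ℕ, M.k σ * B.X.F.p * (M.k σ)⁻¹ = B.X.F.p ^ i := by
      rcases hN with e | e
      · refine ⟨1, ?_⟩
        rw [pow_one, ← hkπ, ← map_mul, show σ * π = π * σ from
          Subtype.ext ((peq_iff (hp.mul hπ) (hπ.mul hp)).1 e), map_mul, mul_inv_cancel_right]
      · refine ⟨2, ?_⟩
        rw [pow_two, ← hkπ, ← map_mul, show σ * π = π * (π * σ) from
          Subtype.ext ((peq_iff (hp.mul hπ) (hπ.mul (hπ.mul hp))).1 e), map_mul, map_mul, ← mul_assoc,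
          mul_inv_cancel_right]
    obtain ⟨i, hi⟩ := hconj
    intro q hq
    obtain ⟨l, rfl⟩ := B.X.F.P_eq hq
    rw [show B.vel v * M.k σ * B.X.F.p ^ l * (B.vel v * M.k σ)⁻¹ =
        B.vel v * (M.k σ * B.X.F.p * (M.k σ)⁻¹) ^ l * (B.vel v)⁻¹ by rw [conj_pow]; group,
      hi, ((hvp'.pow_right i).pow_right l).eq, mul_inv_cancel_right]
    exact pow_mem (pow_mem B.X.F.hpP _) _
  by_cases hj6 : j < 6
  · -- the first fixed space
    have h := forallLt_elim hlow hj6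
    simp only [Bool.and_eq_true, Nat.blt_eq, Nat.beq_eq] at h
    obtain ⟨hlt, hcol⟩ := h
    have hq : B.q (2 ^ j) = B.vel (2 ^ (j + 1)) := by
      have h64 : 2 ^ j < 64 := lt_of_lt_of_eq (Nat.pow_lt_pow_right (by norm_num) hj6) (by norm_num)
      rw [q, Nat.mod_eq_of_lt h64, Nat.div_eq_of_lt h64, W_zero, mul_one, ← B.vel_U h64]
      congr 1
      show (2 ^ j) <<< 1 = _
      rw [Nat.shiftLeft_eq]; ring
    have h2 : 2 ^ (j + 1) < 2048 :=
      lt_of_le_of_lt (Nat.pow_le_pow_right (by norm_num) (show j + 1 ≤ 10 by omega)) (by norm_num)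
    rw [hq, hcol, show B.vel v * M.k σ * B.vel (2 ^ (j + 1)) * (B.vel v * M.k σ)⁻¹ =
      B.vel v * (M.k σ * B.vel (2 ^ (j + 1)) * (M.k σ)⁻¹) * (B.vel v)⁻¹ by group, (M.act' hp h2).2,
      (B.vel_comm v (pImg p (2 ^ (j + 1)))).eq, mul_inv_cancel_right]
    exact B.vel_zm_q hlt
  · -- the second fixed space
    obtain ⟨i, rfl⟩ : ∃ i, j = 6 + i := ⟨j - 6, by omega⟩
    have hi6 : i < 6 := by omega
    have h := forallLt_elim hhigh hi6
    simp only [Bool.and_eq_true, Nat.blt_eq, Nat.beq_eq] at h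
    obtain ⟨⟨hpe, hlt⟩, hcol⟩ := h
    set C := mCol m (6 + i) with hC
    have hClt : C < 4096 := mCol_lt m _
    have h64 : 2 ^ i < 64 := lt_of_lt_of_eq (Nat.pow_lt_pow_right (by norm_num) hi6) (by norm_num)
    have hw' : Nat.shiftRight C 6 < 64 := by
      show C >>> 6 < 64
      rw [Nat.shiftRight_eq_div_pow]; omega
    obtain ⟨s, hs, hks⟩ := M.k_wPerm h64
    obtain ⟨s', hs', hks'⟩ := M.k_wPerm hw'
    have hq : B.q (2 ^ (6 + i)) = B.W (2 ^ i) := by
      rw [q, show 2 ^ (6 + i) % 64 = 0 by rw [pow_add]; norm_num,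
        show 2 ^ (6 + i) / 64 = 2 ^ i by rw [pow_add]; norm_num, U_zero, one_mul]
    have hqC : B.q C = B.q (Nat.land C 63) * B.W (Nat.shiftRight C 6) := by
      rw [show Nat.land C 63 = C % 64 from Nat.and_two_pow_sub_one_eq_mod C 6,
        show Nat.shiftRight C 6 = C / 64 from Nat.shiftRight_eq_div_pow C 6, q, q,
        Nat.mod_eq_of_lt (Nat.mod_lt C (by norm_num : 64 > 0)), Nat.div_eq_of_lt (Nat.mod_lt C (by norm_num : 64 > 0)),
        W_zero, mul_one]
    rw [hq, ← hks, hqC, show B.vel v * M.k σ * M.k s * (B.vel v * M.k σ)⁻¹ =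
      B.vel v * (M.k σ * M.k s) * (M.k σ)⁻¹ * (B.vel v)⁻¹ by group, ← map_mul,
      show σ * s = s' * σ from Subtype.ext ((peq_iff (hp.mul hs) (hs'.mul hp)).1 hpe), map_mul,
      show B.vel v * (M.k s' * M.k σ) * (M.k σ)⁻¹ * (B.vel v)⁻¹ =
        B.vel v * (M.k s' * (B.vel v)⁻¹ * (M.k s')⁻¹) * M.k s' by group]
    have hinv : (B.vel v)⁻¹ = B.vel v := inv_eq_of_mul_eq_one_right (B.vel_sq v)
    rw [hinv, (M.act' hs' hv).2, B.vel_xor, hks', ← hcol]
    exact (B.vel_zm_q hlt).mul_right _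

/-- The element `q y * (v, p)` and its image. -/
theorem img_of_check {y v p m : ℕ} {σ : ↥M24} (hy : y < 4096) (hp : Rep σ.1 p) (h : jCheck v p m = true) :
    ∃ τ : ↥M24, Rep τ.1 (elPerm y p) ∧ B.Img (B.vel (elCode y v) * M.k τ) y m := by
  obtain ⟨hv, hn, ha⟩ := M.acts_of_check hp h
  obtain ⟨τ, hτ, e⟩ := M.el_eq hy hv hp
  exact ⟨τ, hτ, hy, _, hn, ha, e ▸ Setting.Zm.refl _⟩

end NVModel

end HexBase

end CfsgLib.JankoFour
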