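import Cfsg.Agent.Lib.JankoFourClasses.Two.Central

/-!
# The elements of order four of the extraspecial group (owner: helper28)
-/

set_option autoImplicit false
set_option linter.unusedSectionVars false
set_option maxRecDepth 100000

namespace CfsgLib.JankoFour

open Cfsg CfsgLib.ThreeTrans CfsgLib.JankoFourHexad CfsgLib.JankoFourOrder
open CfsgLib.JankoFourOrder.Central CfsgLib.JankoFourClasses.Two
open CfsgLib.Sporadic (Rep forallLt_elim countLt exists_M24_elt isAut pone)

variable {G : Type*} [Group G] [Finite G]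

namespace HexBase

variable {S : Setting G} (B : HexBase S)

/-- The codes reached from the vector of the element. -/
theorem exists_orbit_witness (M : B.NVModel) {x : G} (hx : B.Img x 66 mId) :
    ∀ v, eMask.testBit v = true → ∃ u, Commute u S.z ∧ B.Img (u * x * u⁻¹) v mId := by
  suffices hfold : ∀ (l : List ℕ) (m : ℕ), (∀ v, m.testBit v = true → ∃ u, Commute u S.z ∧ B.Img (u * x * u⁻¹) v mId) →
      ∀ v, (l.foldl eStep m).testBit v = true → ∃ u, Commute u S.z ∧ B.Img (u * x * u⁻¹) v mId by
    refine hfold eSteps _ fun v hv => ?_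
    rw [show Nat.shiftLeft 1 66 = 1 <<< 66 from rfl, Nat.shiftLeft_eq, one_mul, Nat.testBit_two_pow,
      decide_eq_true_eq] at hv
    subst hv
    exact ⟨1, Commute.one_left _, by rwa [one_mul, inv_one, mul_one]⟩
  intro l
  induction l with
  | nil => exact fun m h => h
  | cons c l ih =>
    intro m h v hv
    refine ih (eStep m c) (fun w hw => ?_) v hv
    unfold eStep at hw
    split_ifs at hw with hc
    · simp only [Bool.and_eq_true, Nat.blt_eq] at hc
      obtain ⟨⟨hb, hg⟩, hp⟩ := hc
      rw [show ∀ a b : ℕ, Nat.lor a (Nat.shiftLeft 1 b) = a ||| (1 <<< b) from fun _ _ => rfl, Nat.testBit_or,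
        Bool.or_eq_true] at hw
      rcases hw with hw | hw
      · exact h w hw
      rw [Nat.shiftLeft_eq, one_mul, Nat.testBit_two_pow, decide_eq_true_eq] at hw
      subst hw
      obtain ⟨u, hu, hi⟩ := h _ hb
      obtain ⟨t, ht, ha⟩ := B.exists_letter M (g := Nat.land c 3) (by omega)
      have e : letM (Nat.land c 3) = genM (Nat.land c 3) := by rw [letM, if_pos (Nat.blt_eq.mpr hg)]
      refine ⟨t * u, ht.1.mul_left hu, ?_⟩
      have h1 := (B.img_norm ht ha).conj B hi (by rw [mMul_id_left ha.1, mMul_id_right ha.1])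
      rw [mMul_vec_zero, Nat.zero_xor, Nat.xor_zero, e] at h1
      rw [show t * u * x * (t * u)⁻¹ = t * (u * x * u⁻¹) * t⁻¹ by group]
      exact h1
    · exact h w hw

/-- **The class inside the extraspecial group.** -/
theorem exists_rep_extra (M : B.NVModel) :
    ∃ x : G, B.Mat x mId ∧ x ^ 2 = S.z ∧
      4032 * Nat.card ↥(Subgroup.centralizer ({x} : Set G)) ≤ Nat.card ↥S.H := by
  classical
  have he := e_elem
  simp only [Bool.and_eq_true, Nat.blt_eq, Nat.beq_eq] at he
  obtain ⟨⟨⟨⟨hj, hf⟩, hz⟩, hel⟩, htw⟩ := he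
  obtain ⟨τ, hτ, hx⟩ := M.img_of_check (y := 66) (σ := 1) (by norm_num) Rep.one hj
  set x := B.vel (elCode 66 0) * M.k τ with hxdef
  have hxz : x ^ 2 = S.z := (M.pow_value hel hτ hz).trans B.vel_one
  refine ⟨x, ⟨_, hx⟩, hxz, ?_⟩
  have hW : ∀ v : {v : Fin 4096 // eMask.testBit v.1 = true},
      ∃ u, Commute u S.z ∧ B.Img (u * x * u⁻¹) v.1.1 mId := fun v => B.exists_orbit_witness M hx _ v.2
  choose W hWz hWi using hW
  let Z : Bool → G := fun e => bif e then B.vel eTwist else 1
  have hy : ∀ e, Z e * x * (Z e)⁻¹ = bif e then S.z * x else x := fun e => by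
    cases e
    · simp [Z]
    · exact M.twist hτ hf htw
  let ι := {v : Fin 4096 // eMask.testBit v.1 = true} × Bool
  have hcard : Nat.card ι = 4032 := by
    simp only [ι, Nat.card_prod]
    rw [card_countLt (fun v => Nat.testBit eMask v), e_count, Nat.card_eq_fintype_card (α := Bool), Fintype.card_bool]
  rw [← hcard]
  refine card_centralizer_mul_le (centralizer_le_H hxz) (fun a : ι => W a.1 * Z a.2) (fun a => ?_) ?_
  · refine S.mem_H.2 ((hWz a.1).mul_left ?_)
    show Commute (bif a.2 then B.vel eTwist else 1) S.z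
    cases a.2
    exacts [Commute.one_left _, B.vel_comm_z _]
  have hy2 : ∀ v e, B.Img (W v * (Z e * x * (Z e)⁻¹) * (W v)⁻¹) v.1.1 mId := fun v e => by
    rw [hy]
    cases e
    · exact hWi v
    · refine (hWi v).congr B ?_
      exact Setting.Zm.conj (Or.inr rfl : S.Zm (S.z * x) x) (hWz v)
  rintro ⟨v, e⟩ ⟨v', e'⟩ heq
  simp only at heq
  have key : ∀ (w t : G), w * t * x * (w * t)⁻¹ = w * (t * x * t⁻¹) * w⁻¹ := fun w t => by group
  rw [key, key] at heq
  obtain rfl : v = v' := Subtype.ext (Fin.ext ((hy2 v e).unique B (heq ▸ hy2 v' e')).1)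
  have heq1 := mul_left_cancel (mul_right_cancel heq)
  obtain rfl : e = e' := by
    rw [hy, hy] at heq1
    cases e <;> cases e' <;> simp_all [S.hE.z_ne_one]
  rfl

end HexBase

end CfsgLib.JankoFour
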