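import Cfsg.Agent.Lib.JankoFourClasses.Table
import Cfsg.Agent.Lib.JankoFourClasses.Two.Extra
import Cfsg.Agent.Lib.JankoFourClasses.Two.Dual
import Cfsg.Agent.Lib.JankoFourOrder.Coord.Model

/-!
# The classes of elements of 2-power order in a group of Janko-four type (owner: helper28)
-/

set_option autoImplicit false
set_option linter.unusedSectionVars false
set_option maxRecDepth 100000

namespace CfsgLib.JankoFourClasses.Two

open CfsgLib.Sporadic CfsgLib.JankoFourOrder CfsgLib.JankoFourOrder.Central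

/-- The sum of the first four powers of a matrix at a vector. -/
noncomputable def fourSum (m v : ℕ) : ℕ :=
  Nat.xor (Nat.xor v (mMul m v)) (Nat.xor (mMul m (mMul m v)) (mMul m (mMul m (mMul m v))))

theorem fourSum_tells : (forallLt 4096 (fun v => Nat.beq (fourSum (nR 3) v) 0) &&
    !forallLt 4096 (fun v => Nat.beq (fourSum (nR 2) v) 0)) = true := by decide +kernel

theorem ord_values : forallLt 5 (fun r => Nat.beq (ordR r) ([4, 8, 8, 8, 16].getD r 0)) = true := by decide +kernel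

end CfsgLib.JankoFourClasses.Two

namespace CfsgLib.JankoFourClasses

variable {G : Type*} [Group G]

theorem twoPow_classes_one {n a : ℕ} {x : G} (h : orderOf x = n ∧ Nat.card ↥(Subgroup.centralizer ({x} : Set G)) ≤ a) :
    HasClasses G [(n, a)] :=
  ⟨![x], fun i => by fin_cases i; exact h, fun i j _ => Subsingleton.elim (α := Fin 1) i j⟩

theorem twoPow_classes_pair {n a b : ℕ} {x y : G}
    (hx : orderOf x = n ∧ Nat.card ↥(Subgroup.centralizer ({x} : Set G)) ≤ a)
    (hy : orderOf y = n ∧ Nat.card ↥(Subgroup.centralizer ({y} : Set G)) ≤ b) (hxy : ¬ IsConj x y) :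
    HasClasses G [(n, a), (n, b)] := by
  refine ⟨![x, y], fun i => by fin_cases i; exacts [hx, hy], fun i j => ?_⟩
  fin_cases i <;> fin_cases j <;> intro h
  exacts [rfl, absurd h hxy, absurd h.symm hxy, rfl]

theorem twoPow_classes_three {n a b c : ℕ} {x y w : G}
    (hx : orderOf x = n ∧ Nat.card ↥(Subgroup.centralizer ({x} : Set G)) ≤ a)
    (hy : orderOf y = n ∧ Nat.card ↥(Subgroup.centralizer ({y} : Set G)) ≤ b)
    (hw : orderOf w = n ∧ Nat.card ↥(Subgroup.centralizer ({w} : Set G)) ≤ c)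
    (hxy : ¬ IsConj x y) (hxw : ¬ IsConj x w) (hyw : ¬ IsConj y w) : HasClasses G [(n, a), (n, b), (n, c)] := by
  refine ⟨![x, y, w], fun i => by fin_cases i; exacts [hx, hy, hw], fun i j => ?_⟩
  fin_cases i <;> fin_cases j <;> intro h
  exacts [rfl, absurd h hxy, absurd h hxw, absurd h.symm hxy, rfl, absurd h hyw, absurd h.symm hxw,
    absurd h.symm hyw, rfl]

end CfsgLib.JankoFourClasses

namespace CfsgLib.JankoFour

open Cfsg CfsgLib.ThreeTrans CfsgLib.JankoFourHexad CfsgLib.JankoFourOrder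
open CfsgLib.JankoFourOrder.Central CfsgLib.JankoFourClasses CfsgLib.JankoFourClasses.Two
open CfsgLib.Sporadic (forallLt_elim forallLt_iff)

variable {G : Type*} [Group G] [Finite G]

namespace HexBase

variable {S : Setting G} (B : HexBase S)

/-- Conjugate elements with powers equal to `z` have similar matrices. -/
theorem similar_of_conj {x y : G} {a b k : ℕ} (hx : B.Mat x a) (hy : B.Mat y b) (hxz : x ^ k = S.z)
    (hyz : y ^ k = S.z) (h : IsConj x y) :
    ∃ m mi, mMul m a = mMul b m ∧ mMul m mi = mId ∧ mMul mi m = mId ∧ m < 2 ^ 144 ∧ mi < 2 ^ 144 := by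
  obtain ⟨g, hg⟩ := isConj_iff.1 h
  have hgz : Commute g S.z := by
    have e : g * S.z * g⁻¹ = S.z := by rw [← hxz, ← conj_pow, hg, hyz, hxz]
    exact mul_inv_eq_iff_eq_mul.1 e
  obtain ⟨m, hm⟩ := B.mat_exists hgz
  obtain ⟨mi, hmi, e1, e2⟩ := hm.inv B
  refine ⟨m, mi, ?_, e2, e1, hm.lt B, hmi.lt B⟩
  have h1 := hm.mul B hx
  have h2 := hy.mul B hm
  rw [← hg, inv_mul_cancel_right] at h2
  exact h1.unique B h2

include B in
/-- **The classes of elements of order a power of two.** -/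
theorem two_classes_table [IsSimpleGroup G] (hG : ¬ IsMulCommutative G) (hJ : IsOfJankoFourType G) :
    HasClasses G twoTable := by
  classical
  haveI : Nonempty (Frame S) := ⟨B.X.F⟩
  obtain ⟨M⟩ := B.exists_nvModel hG hJ
  obtain ⟨ht1, htz⟩ := B.duadRep_facts hG hJ
  have hH : Nat.card ↥S.H = 21799895040 := S.card_H_five.trans (by norm_num)
  have hT : Nat.card ↥(Subgroup.centralizer ({B.duadRep} : Set G)) = 1816657920 :=
    (B.duad_centralizer_card hG hJ).trans (by norm_num)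
  have ho : orderOf B.duadRep = 2 :=
    orderOf_eq_prime (hp := ⟨Nat.prime_two⟩) (B.V_elementary.2 _ B.duadRep_mem) ht1
  have hc := cls_card
  simp only [Bool.and_eq_true, Nat.beq_eq] at hc
  have hs := sizes_n
  simp only [Bool.and_eq_true, Nat.beq_eq] at hs
  obtain ⟨⟨⟨⟨⟨⟨⟨⟨⟨n0, n1⟩, n2⟩, n3⟩, n4⟩, w0⟩, w1⟩, w2⟩, w3⟩, w4⟩ := hs
  have hcl : ∀ r < 5, clsOf (invIx r) = [0, 2, 0, 0, 0].getD r 0 := fun r hr =>
    Nat.eq_of_beq_eq_true (forallLt_elim inv_cls hr)
  have hor : ∀ r < 5, ordR r = [4, 8, 8, 8, 16].getD r 0 := fun r hr =>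
    Nat.eq_of_beq_eq_true (forallLt_elim ord_values hr)
  obtain ⟨xE, mE, zE, cE⟩ := B.exists_rep_extra M
  obtain ⟨xT, zT, oT, cT⟩ := B.exists_rep_dual hG hJ M
  obtain ⟨x0, m0, z0, c0⟩ := B.exists_rep M (r := 0) (o3 := 96) (by norm_num) (hcl 0 (by norm_num)) hc.1 n0
    (by rw [w0]; exact w_count0)
  obtain ⟨x1, m1, z1, c1⟩ := B.exists_rep M (r := 1) (o3 := 2048) (by norm_num) (hcl 1 (by norm_num)) hc.2 n1
    (by rw [w1]; exact w_count1)
  obtain ⟨x2, m2, z2, c2⟩ := B.exists_rep M (r := 2) (o3 := 512) (by norm_num) (hcl 2 (by norm_num)) hc.1 n2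
    (by rw [w2]; exact w_count2)
  obtain ⟨x3, m3, z3, c3⟩ := B.exists_rep M (r := 3) (o3 := 1536) (by norm_num) (hcl 3 (by norm_num)) hc.1 n3
    (by rw [w3]; exact w_count3)
  obtain ⟨x4, m4, z4, c4⟩ := B.exists_rep M (r := 4) (o3 := 2048) (by norm_num) (hcl 4 (by norm_num)) hc.1 n4
    (by rw [w4]; exact w_count4)
  rw [hor _ (by norm_num)] at z0 z1 z2 z3 z4
  norm_num at z0 z1 z2 z3 z4
  rw [hH] at c0 c1 c2 c3 c4 cE
  have hinv := mat_invariants
  simp only [Bool.and_eq_true, Bool.not_eq_true', Nat.beq_eq] at hinv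
  obtain ⟨⟨⟨⟨⟨⟨⟨-, hsq1⟩, -⟩, hn0⟩, hsq2⟩, hsq3⟩, -⟩, -⟩ := hinv
  have n_lt : ∀ {x : G} {m : ℕ}, B.Mat x m → JankoFourOrder.mPow m 2 = mMul m m := fun {x m} h => by
    rw [mPow_succ, mPow_succ]
    show mMul m (mMul m mId) = _
    rw [mMul_id_right (h.lt B)]
  -- orders
  have o4E : orderOf xE = 4 := orderOf_of_pow_z (k := 1) (by simpa using zE)
  have o40 : orderOf x0 = 4 := orderOf_of_pow_z (k := 1) (by simpa using z0)
  have o81 : orderOf x1 = 8 := orderOf_of_pow_z (k := 2) z1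
  have o82 : orderOf x2 = 8 := orderOf_of_pow_z (k := 2) z2
  have o83 : orderOf x3 = 8 := orderOf_of_pow_z (k := 2) z3
  have o16 : orderOf x4 = 16 := orderOf_of_pow_z (k := 3) z4
  -- the pairs
  have hE0 : ¬ IsConj xE x0 := fun h => by
    obtain ⟨m, mi, e, e2, -, hm, -⟩ := B.similar_of_conj mE m0 zE (by simpa using z0) h
    have := congrArg (fun t => mMul t mi) e
    simp only [mMul_assoc, e2, mMul_id_right (m0.lt B)] at this
    rw [← mMul_assoc, mMul_id_right hm, e2] at this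
    exact (Bool.eq_false_iff.1 hn0) (Nat.beq_eq ▸ this.symm)
  have hsqne : ∀ {x y : G} {a b : ℕ}, B.Mat x a → B.Mat y b → x ^ 4 = S.z → y ^ 4 = S.z →
      JankoFourOrder.mPow a 2 = mId → Nat.beq (JankoFourOrder.mPow b 2) mId = false → ¬ IsConj x y := by
    intro x y a b ha hb hxz hyz h1 h2 h
    obtain ⟨m, mi, e, e2, -, hm, -⟩ := B.similar_of_conj ha hb hxz hyz h
    have e' : mMul m (mMul a a) = mMul (mMul b b) m := by
      rw [← mMul_assoc, e, mMul_assoc, e, mMul_assoc]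
    rw [← n_lt ha, ← n_lt hb, h1, mMul_id_right hm] at e'
    have := congrArg (fun t => mMul t mi) e'
    simp only [mMul_assoc, e2] at this
    rw [mMul_id_right ((hb.pow B 2).lt B)] at this
    exact (Bool.eq_false_iff.1 h2) (Nat.beq_eq ▸ this.symm)
  have h23 : ¬ IsConj x2 x3 := fun h => by
    have hsum := fourSum_tells
    simp only [Bool.and_eq_true, Bool.not_eq_true'] at hsum
    obtain ⟨m, mi, e, -, e1, -, -⟩ := B.similar_of_conj m2 m3 z2 z3 h
    refine Bool.eq_false_iff.1 hsum.2 ((forallLt_iff _ _).2 fun v hv => ?_)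
    have hmv := mMul_vec_lt m hv
    have step : ∀ u < 4096, mMul m (mMul (nR 2) u) = mMul (nR 3) (mMul m u) := fun u hu => by
      rw [← mMul_assoc_vec m (nR 2) hu, e, mMul_assoc_vec _ m hu]
    have h1 := mMul_vec_lt (nR 2) hv
    have h2 := mMul_vec_lt (nR 2) h1
    have h3 := mMul_vec_lt (nR 2) h2
    have key : mMul m (fourSum (nR 2) v) = fourSum (nR 3) (mMul m v) := by
      show mMul m ((v ^^^ mMul (nR 2) v) ^^^ (mMul (nR 2) (mMul (nR 2) v) ^^^ mMul (nR 2) (mMul (nR 2) (mMul (nR 2) v))))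
        = (mMul m v ^^^ mMul (nR 3) (mMul m v)) ^^^ (mMul (nR 3) (mMul (nR 3) (mMul m v)) ^^^
            mMul (nR 3) (mMul (nR 3) (mMul (nR 3) (mMul m v))))
      rw [mMul_add m (Nat.xor_lt_two_pow (n := 12) hv h1) (Nat.xor_lt_two_pow (n := 12) h2 h3),
        mMul_add m hv h1, mMul_add m h2 h3, step _ h2, step _ h1, step _ hv]
    have h0 : fourSum (nR 3) (mMul m v) = 0 := Nat.eq_of_beq_eq_true (forallLt_elim hsum.1 hmv)
    have hlt : fourSum (nR 2) v < 4096 :=
      Nat.xor_lt_two_pow (n := 12) (Nat.xor_lt_two_pow (n := 12) hv h1) (Nat.xor_lt_two_pow (n := 12) h2 h3)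
    have h4 := congrArg (fun t => mMul mi t) (key.trans h0)
    simp only [mMul_vec_zero] at h4
    rw [← mMul_assoc_vec mi m hlt, e1, mMul_id_vec hlt] at h4
    rw [h4]
    rfl
  have hET : ∀ {x : G}, x ^ 2 = S.z → ¬ IsConj x xT := fun {x} hx h => htz (by
    have := h.pow 2
    rwa [hx, zT] at this)
  -- the table
  have hHz : Subgroup.centralizer ({S.z} : Set G) ≤ S.H := centralizer_le_H (k := 1) (pow_one _)
  have t2 : HasClasses G [(2, 21799895040), (2, 1816657920)] :=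
    twoPow_classes_pair ⟨S.orderOf_z, hH ▸ Nat.le_of_dvd Nat.card_pos (Subgroup.card_dvd_of_le hHz)⟩ ⟨ho, hT.le⟩ htz
  have t4 : HasClasses G [(4, 5406720), (4, 98304), (4, 43008)] :=
    twoPow_classes_three ⟨o4E, by omega⟩ ⟨o40, by omega⟩ ⟨oT, cT⟩ hE0 (hET zE) (hET (by simpa using z0))
  have t8 : HasClasses G [(8, 1280), (8, 768), (8, 512)] :=
    twoPow_classes_three ⟨o81, by omega⟩ ⟨o82, by omega⟩ ⟨o83, by omega⟩
      (hsqne m1 m2 z1 z2 hsq1 hsq2) (hsqne m1 m3 z1 z3 hsq1 hsq3) h23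
  have t16 : HasClasses G [(16, 32)] := twoPow_classes_one ⟨o16, by omega⟩
  exact ((t2.append t4 (by decide)).append t8 (by decide)).append t16 (by decide)

end HexBase

/-- The classes of 2-elements, in a group of Janko-four type. -/
theorem two_classes_of_type [IsSimpleGroup G] (hG : ¬ IsMulCommutative G) (hJ : IsOfJankoFourType G) :
    HasClasses G twoTable := by
  obtain ⟨z, P, hP⟩ := id hJ
  obtain ⟨S, -, -⟩ := exists_setting hP
  obtain ⟨B⟩ := S.exists_hexBase
  exact B.two_classes_table hG hJ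

end CfsgLib.JankoFour
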