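import Cfsg.Agent.Lib.JankoFourClasses.Two.Embed
import Cfsg.Agent.Lib.JankoFourOrder.Central.Words
import Cfsg.Agent.Lib.JankoFourClasses.Two.Checks
import Cfsg.Agent.Lib.JankoFourHexad.Orbits

/-!
# Centralizer bounds from conjugates, and the witnesses in the centralizer of `z` (owner: helper28)
-/

set_option autoImplicit false
set_option linter.unusedSectionVars false
set_option maxRecDepth 100000

namespace CfsgLib.JankoFourClasses.Two

open CfsgLib.JankoFourOrder
open CfsgLib.Sporadic (countLt countLt_eq)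

/-- The centralizer of an element, against conjugates of it that are told apart. -/
theorem card_centralizer_mul_le {G : Type*} [Group G] [Finite G] {K : Subgroup G} {x : G}
    (hC : Subgroup.centralizer ({x} : Set G) ≤ K) {ι : Type*} (h : ι → G) (hK : ∀ i, h i ∈ K)
    (hinj : Function.Injective fun i => h i * x * (h i)⁻¹) :
    Nat.card ι * Nat.card ↥(Subgroup.centralizer ({x} : Set G)) ≤ Nat.card ↥K := by
  rw [← Nat.card_prod]
  refine Nat.card_le_card_of_injective
    (fun a : ι × ↥(Subgroup.centralizer ({x} : Set G)) => (⟨h a.1 * a.2, mul_mem (hK a.1) (hC a.2.2)⟩ : ↥K)) ?_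
  rintro ⟨i, c⟩ ⟨j, d⟩ e
  have e' : h i * (c : G) = h j * (d : G) := congrArg Subtype.val e
  have key : ∀ (k : ι) (w : ↥(Subgroup.centralizer ({x} : Set G))),
      h k * x * (h k)⁻¹ = (h k * (w : G)) * x * (h k * (w : G))⁻¹ := fun k w => by
    have hw : (w : G) * x = x * (w : G) := Subgroup.mem_centralizer_singleton_iff.1 w.2
    calc h k * x * (h k)⁻¹ = h k * (x * (w : G)) * (w : G)⁻¹ * (h k)⁻¹ := by group
      _ = _ := by rw [← hw]; group
  obtain rfl : i = j := hinj (by simp only; rw [key i c, key j d, e'])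
  exact Prod.ext rfl (Subtype.ext (mul_left_cancel e'))

/-- The set bits of the mask are values. -/
theorem maskOf_test (f : ℕ → ℕ) {v : ℕ} : ∀ {n : ℕ}, (maskOf f n).testBit v = true → ∃ k < n, f k = v
  | 0, h => by simp [maskOf] at h
  | n + 1, h => by
    rw [show maskOf f (n + 1) = maskOf f n ||| (1 <<< f n) from rfl, Nat.testBit_or, Bool.or_eq_true] at h
    rcases h with h | h
    · obtain ⟨k, hk, e⟩ := maskOf_test f h
      exact ⟨k, by omega, e⟩
    · rw [Nat.shiftLeft_eq, one_mul, Nat.testBit_two_pow, decide_eq_true_eq] at h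
      exact ⟨n, by omega, h⟩

/-- A count as a cardinality. -/
theorem card_countLt {N : ℕ} (f : ℕ → Bool) : Nat.card {v : Fin N // f v.1 = true} = countLt N f := by
  rw [Nat.card_eq_fintype_card, Fintype.card_subtype, countLt_eq]
  refine Finset.card_bij (fun v _ => v.1) ?_ ?_ ?_
  · intro a ha
    simp only [Finset.mem_filter, Finset.mem_range] at ha ⊢
    exact ⟨a.2, ha.2⟩
  · exact fun a _ b _ h => Fin.ext h
  · intro b hb
    simp only [Finset.mem_filter, Finset.mem_range] at hb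
    exact ⟨⟨b, hb.1⟩, Finset.mem_filter.2 ⟨Finset.mem_univ _, hb.2⟩, rfl⟩

theorem mMul_id_right {m : ℕ} (hm : m < 2 ^ 144) : mMul m mId = m :=
  mat_ext_vec (mMul_lt _ _) hm fun x hx => by rw [mMul_assoc_vec m mId hx, mMul_id_vec hx]

theorem mMul_id_left {m : ℕ} (hm : m < 2 ^ 144) : mMul mId m = m :=
  mat_ext_vec (mMul_lt _ _) hm fun x hx => by
    rw [mMul_assoc_vec mId m hx, mMul_id_vec (mMul_vec_lt m hx)]

end CfsgLib.JankoFourClasses.Two

namespace CfsgLib.JankoFour

open Cfsg CfsgLib.JankoFourHexad CfsgLib.JankoFourOrder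
open CfsgLib.JankoFourOrder.Central CfsgLib.JankoFourClasses.Two
open CfsgLib.Sporadic (forallLt_elim exists_M24_elt isAut)

variable {G : Type*} [Group G] [Finite G]

namespace HexBase

variable {S : Setting G} (B : HexBase S)

theorem Img.mat_lt {u : G} {x m : ℕ} (h : B.Img u x m) : m < 2 ^ 144 := by
  obtain ⟨-, n, -, ha, -⟩ := h
  exact ha.1

theorem Mat.lt {u : G} {m : ℕ} (h : B.Mat u m) : m < 2 ^ 144 := h.choose_spec.mat_lt B

theorem Mat.pow {u : G} {m : ℕ} (h : B.Mat u m) (k : ℕ) : B.Mat (u ^ k) (JankoFourOrder.mPow m k) :=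
  ⟨_, h.choose_spec.pow B k⟩

theorem Mat.inv {u : G} {m : ℕ} (h : B.Mat u m) :
    ∃ mi, B.Mat u⁻¹ mi ∧ mMul mi m = mId ∧ mMul m mi = mId := by
  obtain ⟨mi, hi⟩ := B.mat_exists (h.commute B).inv_left
  refine ⟨mi, hi, Mat.unique B (inv_mul_cancel u ▸ hi.mul B h) B.mat_one,
    Mat.unique B (mul_inv_cancel u ▸ h.mul B hi) B.mat_one⟩

/-- The image of a conjugate by an element whose matrix commutes. -/
theorem Img.conj {h y : G} {f m w a : ℕ} (hh : B.Img h f m) (hy : B.Img y w a) (e : mMul m a = mMul a m) :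
    B.Img (h * y * h⁻¹) (f ^^^ mMul m w ^^^ mMul a f) a := by
  obtain ⟨w', hw'⟩ := Mat.conj B ⟨f, hh⟩ ⟨w, hy⟩ (hy.mat_lt B) e
  have hl : B.Img (h * y) (w' ^^^ mMul a f) (mMul a m) := by
    have := hw'.mul B hh
    rwa [inv_mul_cancel_right] at this
  have e1 := (hl.unique B (hh.mul B hy)).1
  rw [← e1, Nat.xor_assoc, Nat.xor_self, Nat.xor_zero]
  exact hw'

/-- An element with the matrix of a letter. -/
theorem exists_letter (M : B.NVModel) {g : ℕ} (hg : g < 5) : ∃ u, S.Norm u ∧ B.Acts u (letM g) := by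
  have hgen : ∀ i < 2, ∃ u, S.Norm u ∧ B.Acts u (genM i) ∧ B.Acts u⁻¹ (genI i) := by
    intro i hi
    have h := forallLt_elim gen_ok hi
    simp only [Bool.and_eq_true, Nat.blt_eq, Nat.beq_eq, List.all_eq_true] at h
    obtain ⟨⟨⟨⟨⟨hw, hm⟩, hmi⟩, he⟩, -⟩, hcol⟩ := h
    obtain ⟨t, htC, ht⟩ := B.exists_word _ hw
    have hn := S.norm_of_mem_C htC
    have ha : B.Acts t (genM i) := B.acts_of_basis hn.1 hm fun j hj => by
      obtain ⟨-, hz⟩ := ht (2 ^ j) (lt_of_lt_of_eq (Nat.pow_lt_pow_right (by norm_num) hj) (by norm_num))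
      have hc := forallLt_elim hcol hj
      rw [Nat.beq_eq] at hc
      rw [← hc]
      exact Setting.zm_iff.2 hz
    exact ⟨t, hn, ha, ha.inv B hn.1 hmi he⟩
  by_cases h2 : g < 2
  · obtain ⟨u, hn, ha, -⟩ := hgen g h2
    refine ⟨u, hn, ?_⟩
    rwa [letM, if_pos (Nat.blt_eq.mpr h2)]
  have hnb : ¬ Nat.blt g 2 = true := fun e => h2 (Nat.blt_eq.mp e)
  by_cases h3 : g = 2
  · subst h3
    have h := forallLt_elim rep_el (show 1 < 3 by norm_num)
    simp only [Bool.and_eq_true] at h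
    obtain ⟨⟨hj, -⟩, -⟩ := h
    have hj' := hj
    simp only [jCheck, normPerm, Bool.and_eq_true] at hj'
    obtain ⟨σ, hσ⟩ := exists_M24_elt hj'.1.1.1.2.1.1
    obtain ⟨-, hn, ha⟩ := M.acts_of_check hσ hj
    refine ⟨_, hn, ?_⟩
    rwa [letM, if_neg hnb, if_pos (Nat.beq_refl 2)]
  · obtain ⟨u, hn, -, ha⟩ := hgen (g - 3) (by omega)
    refine ⟨u⁻¹, hn.inv S, ?_⟩
    rwa [letM, if_neg hnb, if_neg (fun e => h3 (Nat.eq_of_beq_eq_true e))]

theorem exists_evalW (M : B.NVModel) : ∀ {w : List ℕ}, (∀ g ∈ w, g < 5) → ∃ u, S.Norm u ∧ B.Acts u (evalW w)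
  | [], _ => ⟨1, Setting.norm_one, B.acts_one⟩
  | g :: w, h => by
    obtain ⟨u, hu, hu'⟩ := B.exists_letter M (h g (by simp))
    obtain ⟨v, hv, hv'⟩ := exists_evalW M (w := w) fun x hx => h x (by simp [hx])
    exact ⟨u * v, hu.mul S hv, hu'.mul B hv' hu.1⟩

theorem exists_hWord (M : B.NVModel) {r : ℕ} (hr : r < 5) :
    ∀ {w : List ℕ}, (∀ i ∈ w, i < (hWords.getD r []).length) → ∃ u, S.Norm u ∧ B.Acts u (hWordM r w)
  | [], _ => ⟨1, Setting.norm_one, B.acts_one⟩
  | i :: w, h => by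
    have hg := forallLt_elim gens_ok hr
    have hi := forallLt_elim hg (h i (by simp))
    simp only [Bool.and_eq_true, List.all_eq_true, Nat.blt_eq] at hi
    obtain ⟨u, hu, hu'⟩ := B.exists_evalW M hi.1
    obtain ⟨v, hv, hv'⟩ := exists_hWord M hr (w := w) fun x hx => h x (by simp [hx])
    exact ⟨u * v, hu.mul S hv, hu'.mul B hv' hu.1⟩

/-- An element carrying the representative of a class to a matrix of the list. -/
theorem exists_class_witness {j : ℕ} : j < 6303 →
    ∃ u m, B.Mat u m ∧ mMul m (repM (clsOf j)) = mMul (LT j) m := by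
  induction j using Nat.strong_induction_on with
  | _ j ih =>
    intro hj
    have h := split_check par_a par_b (show j < 6304 by omega)
    unfold parOK at h
    split_ifs at h with hs
    · rw [Nat.beq_eq] at h
      refine ⟨1, mId, B.mat_one, ?_⟩
      have hlt := LT_lt j
      rw [mMul_id_right hlt, ← h, mMul_id_left hlt]
    · simp only [Bool.and_eq_true, Nat.blt_eq, Nat.beq_eq] at h
      obtain ⟨⟨hp, hcl⟩, he⟩ := h
      set g := Nat.land (parCode j) 1
      set p := Nat.shiftRight (parCode j) 1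
      have hg : g < 2 := Nat.lt_succ_of_le Nat.and_le_right
      obtain ⟨u, m, hu, hm⟩ := ih p hp (by omega)
      have hw := forallLt_elim gen_ok hg
      simp only [Bool.and_eq_true, Nat.blt_eq, Nat.beq_eq, List.all_eq_true] at hw
      obtain ⟨⟨⟨⟨⟨hwl, hgm⟩, -⟩, -⟩, -⟩, hcol⟩ := hw
      obtain ⟨t, htC, ht⟩ := B.exists_word _ hwl
      have hn := S.norm_of_mem_C htC
      have ha : B.Acts t (genM g) := B.acts_of_basis hn.1 hgm fun i hi => by
        obtain ⟨-, hz⟩ := ht (2 ^ i) (lt_of_lt_of_eq (Nat.pow_lt_pow_right (by norm_num) hi) (by norm_num))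
        have hc := forallLt_elim hcol hi
        rw [Nat.beq_eq] at hc
        rw [← hc]
        exact Setting.zm_iff.2 hz
      refine ⟨t * u, mMul (genM g) m, Mat.mul B ⟨0, B.img_norm hn ha⟩ hu, ?_⟩
      rw [← hcl, mMul_assoc, hm, ← mMul_assoc, he, mMul_assoc]

/-- An element carrying one matrix of a class to another. -/
theorem exists_class_transfer {i j : ℕ} (hi : i < 6303) (hj : j < 6303) (hc : clsOf i = clsOf j) :
    ∃ u m, B.Mat u m ∧ mMul m (LT i) = mMul (LT j) m := by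
  obtain ⟨u, m, hu, hm⟩ := B.exists_class_witness hi
  obtain ⟨v, n, hv, hn⟩ := B.exists_class_witness hj
  obtain ⟨mi, hmi, e1, e2⟩ := hu.inv B
  refine ⟨v * u⁻¹, mMul n mi, hv.mul B hmi, ?_⟩
  have hr : repM (clsOf j) < 2 ^ 144 := by
    have h := forallLt_elim rep_el (show clsOf j < 3 from Nat.blt_eq.mp (forallLt_elim cls_sizes hj))
    simp only [Bool.and_eq_true, jCheck, Nat.blt_eq] at h
    exact h.1.1.1.1.2
  have h1 : mMul mi (LT i) = mMul (repM (clsOf j)) mi := by
    have h0 := congrArg (fun t => mMul mi (mMul t mi)) hm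
    simp only [mMul_assoc, e2] at h0
    rw [mMul_id_right (LT_lt i), ← mMul_assoc mi m, e1, hc] at h0
    rw [← h0, ← mMul_assoc mId, mMul_id_left hr]
  rw [mMul_assoc, h1, ← mMul_assoc, hn, mMul_assoc]

end HexBase

end CfsgLib.JankoFour
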